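import Groth.Agent.SepBC.Closed

/-!
# Geometric connectedness is detected by finite separable extensions
-/

set_option autoImplicit false
set_option backward.isDefEq.respectTransparency false
set_option linter.style.haveILetI false

universe u

open CategoryTheory CategoryTheory.Limits AlgebraicGeometry TensorProduct

namespace Groth.Agent.GeomConnFin

theorem exists_finite_intermediate {k : Type u} [Field k] (A : Type u) [CommRing A] [Algebra k A]
    {K : Type u} [Field K] [Algebra k K] [Algebra.IsAlgebraic k K] (z : A ⊗[k] K) :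
    ∃ E : IntermediateField k K, FiniteDimensional k E ∧
      z ∈ (Algebra.TensorProduct.map (AlgHom.id k A) E.val).range := by
  induction z with
  | zero => exact ⟨⊥, inferInstance, zero_mem _⟩
  | tmul a b =>
    refine ⟨IntermediateField.adjoin k {b}, IntermediateField.adjoin.finiteDimensional (Algebra.IsIntegral.isIntegral b), ?_⟩
    exact ⟨a ⊗ₜ ⟨b, IntermediateField.subset_adjoin k _ rfl⟩, by simp⟩
  | add x y hx hy =>
    obtain ⟨E₁, h₁, hx⟩ := hx
    obtain ⟨E₂, h₂, hy⟩ := hy
    have mono : ∀ {E F : IntermediateField k K}, E ≤ F →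
        (Algebra.TensorProduct.map (AlgHom.id k A) E.val).range ≤
          (Algebra.TensorProduct.map (AlgHom.id k A) F.val).range := by
      rintro E F h _ ⟨w, rfl⟩
      refine ⟨Algebra.TensorProduct.map (AlgHom.id k A) (IntermediateField.inclusion h) w, ?_⟩
      induction w with
      | zero => simp
      | tmul a b => simp
      | add a b ha hb => simp_all
    exact ⟨E₁ ⊔ E₂, IntermediateField.finiteDimensional_sup E₁ E₂,
      add_mem (mono le_sup_left hx) (mono le_sup_right hy)⟩

variable {k : Type u} [Field k] {X : Scheme.{u}} (f : X ⟶ Spec (CommRingCat.of k))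

local notation "g" K => Spec.map (CommRingCat.ofHom (algebraMap k K))

/-- The fibre over `x` in an extension of the base field. -/
theorem exists_fib (K : Type u) [Field K] [Algebra k K] (x : X) :
    letI := (Groth.Agent.WeilLib.kStr f x).toAlgebra
    ∃ m : Spec (CommRingCat.of (X.residueField x ⊗[k] K)) ⟶ pullback f (g K),
      IsPreimmersion m ∧ Set.range m.base = (pullback.fst f (g K)).base ⁻¹' {x} ∧
      m ≫ pullback.fst f (g K) =
        Spec.map (CommRingCat.ofHom (Algebra.TensorProduct.includeLeftRingHom : X.residueField x →+* _)) ≫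
          X.fromSpecResidueField x ∧
      m ≫ pullback.snd f (g K) =
        Spec.map (CommRingCat.ofHom (Algebra.TensorProduct.includeRight (R := k) (A := X.residueField x) (B := K)).toRingHom) := by
  letI := (Groth.Agent.WeilLib.kStr f x).toAlgebra
  let π := pullback.fst f (g K)
  let i := X.fromSpecResidueField x
  let e : pullback i π ≅ Spec (CommRingCat.of (X.residueField x ⊗[k] K)) :=
    pullbackRightPullbackFstIso f (g K) i ≪≫ pullback.congrHom (Groth.Agent.WeilLib.fromSpecResidueField_comp f x) (rfl : (g K) = (g K)) ≪≫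
      pullbackSpecIso k (X.residueField x) K
  refine ⟨e.inv ≫ pullback.snd i π, inferInstance, ?_, ?_, ?_⟩
  · rw [← Scheme.range_fromSpecResidueField x, ← Scheme.Pullback.range_snd, Scheme.Hom.comp_base, TopCat.coe_comp, Set.range_comp,
      e.inv.surjective.range_eq, Set.image_univ]
  · rw [Category.assoc, show pullback.snd i π ≫ π = pullback.fst i π ≫ i from pullback.condition.symm]
    simp [e, i, π]
    exact pullbackSpecIso_inv_fst_assoc k (X.residueField x) K _
  · simp [e, i, π]
    exact pullbackSpecIso_inv_snd k (X.residueField x) K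

theorem geometricallyConnected_of_finite_separable
    (hfin : ∀ (E : Type u) [Field E] [Algebra k E] [FiniteDimensional k E] [Algebra.IsSeparable k E],
      ConnectedSpace ↥(pullback f (g E))) :
    GeometricallyConnected f := by
  let K := SeparableClosure k
  haveI : ConnectedSpace X := by
    haveI := hfin k
    haveI : Surjective (g k) := Groth.Agent.GeomConn.surjective_Spec_field
    exact Groth.Agent.GeomConn.connectedSpace_of_surjective _ _ (pullback.fst f (g k)) inferInstance
  apply Groth.Agent.SepBC.geometricallyConnected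
  haveI : IsIntegralHom (g K) := IsIntegralHom.SpecMap_iff.2 (algebraMap_isIntegral_iff.2 inferInstance)
  haveI : Surjective (g K) := Groth.Agent.GeomConn.surjective_Spec_field
  haveI : UniversallyOpen (g K) := inferInstance
  let π := pullback.fst f (g K)
  obtain ⟨x⟩ := (inferInstance : Nonempty X)
  letI := (Groth.Agent.WeilLib.kStr f x).toAlgebra
  obtain ⟨z₀, hz₀⟩ := π.surjective x
  refine { toPreconnectedSpace := ?_, toNonempty := ⟨z₀⟩ }
  rw [preconnectedSpace_iff_clopen]
  intro A hA
  by_contra hcon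
  push_neg at hcon
  obtain ⟨hA1, hA2⟩ := hcon
  obtain ⟨m, hm, hmr, hm1, hm2⟩ := exists_fib f K x
  obtain ⟨p₀, hp₀⟩ : z₀ ∈ Set.range m.base := by rw [hmr]; exact hz₀
  obtain ⟨e, -, he⟩ := PrimeSpectrum.exists_idempotent_basicOpen_eq_of_isClopen
    (R := X.residueField x ⊗[k] K) (s := m.base ⁻¹' A) (hA.preimage m.continuous)
  obtain ⟨E, hE, e', he'⟩ := exists_finite_intermediate (X.residueField x) e
  haveI : Algebra.IsSeparable k E := Algebra.isSeparable_tower_bot_of_isSeparable k E K
  haveI : ConnectedSpace ↥(pullback f (g E)) := hfin E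
  obtain ⟨m', hm', -, hm'1, hm'2⟩ := exists_fib f E x
  let h : Spec (CommRingCat.of K) ⟶ Spec (CommRingCat.of E) := Spec.map (CommRingCat.ofHom (algebraMap E K))
  haveI : IsIntegralHom h := IsIntegralHom.SpecMap_iff.2
    (algebraMap_isIntegral_iff.2 (Algebra.IsIntegral.tower_top k))
  haveI : Surjective h := Groth.Agent.GeomConn.surjective_Spec_field
  haveI : UniversallyOpen h := inferInstance
  have hh : (g K) = h ≫ (g E) := by
    rw [← Spec.map_comp, ← CommRingCat.ofHom_comp, ← IsScalarTower.algebraMap_eq]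
  let ρ : pullback f (g K) ⟶ pullback f (g E) := (pullback.congrHom (rfl : f = f) hh).hom ≫
    (pullbackLeftPullbackSndIso f (g E) h).inv ≫ pullback.fst (pullback.snd f (g E)) h
  have hρ1 : ρ ≫ pullback.fst f (g E) = π := by simp [ρ, π]
  have hρ2 : ρ ≫ pullback.snd f (g E) = pullback.snd f (g K) ≫ h := by
    simp [ρ, pullback.condition]
  let τ := Algebra.TensorProduct.map (AlgHom.id k (X.residueField x)) E.val
  have sq : m ≫ ρ = Spec.map (CommRingCat.ofHom τ.toRingHom) ≫ m' := by
    apply pullback.hom_ext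
    · rw [Category.assoc m ρ, hρ1, Category.assoc, hm'1, hm1, ← Spec.map_comp_assoc]
      congr 2
    · rw [Category.assoc m ρ, hρ2, Category.assoc, hm'2, ← Category.assoc, hm2, ← Spec.map_comp, ← Spec.map_comp]
      congr 1
  have full : ∀ B : Set ↥(pullback f (g K)), IsClopen B → B.Nonempty → ρ.base '' B = Set.univ :=
    fun B hB hne => IsClopen.eq_univ ⟨ρ.isClosedMap _ hB.1, ρ.isOpenMap _ hB.2⟩ (hne.image _)
  have hy : ∀ u, ρ.base u = ρ.base (m.base p₀) → ∃ u₀, m.base u₀ = u ∧
      (Spec.map (CommRingCat.ofHom τ.toRingHom)).base u₀ = (Spec.map (CommRingCat.ofHom τ.toRingHom)).base p₀ := by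
    intro u hu
    obtain ⟨u₀, hu₀⟩ : u ∈ Set.range m.base := by
      rw [hmr]
      show π.base u = x
      rw [← hρ1, Scheme.Hom.comp_apply, hu, ← Scheme.Hom.comp_apply, hρ1, hp₀]
      exact hz₀
    refine ⟨u₀, hu₀, m'.isEmbedding.injective ?_⟩
    rw [← Scheme.Hom.comp_apply, ← Scheme.Hom.comp_apply, ← sq, Scheme.Hom.comp_apply, Scheme.Hom.comp_apply, hu₀]
    exact hu
  have hmem : ∀ u₀, m.base u₀ ∈ A ↔
      (Spec.map (CommRingCat.ofHom τ.toRingHom)).base u₀ ∈ PrimeSpectrum.basicOpen e' := by
    intro u₀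
    have hset := Set.ext_iff.1 he u₀
    refine Iff.trans hset ?_
    show e ∉ u₀.asIdeal ↔ e' ∉ u₀.asIdeal.comap τ.toRingHom
    rw [Ideal.mem_comap, ← he']
  obtain ⟨u, huA, hu⟩ : ρ.base (m.base p₀) ∈ ρ.base '' A := by rw [full A hA hA1]; trivial
  obtain ⟨v, hvA, hv⟩ : ρ.base (m.base p₀) ∈ ρ.base '' Aᶜ := by
    rw [full Aᶜ hA.compl (Set.nonempty_compl.2 hA2)]; trivial
  obtain ⟨u₀, rfl, hu₀⟩ := hy u hu
  obtain ⟨v₀, rfl, hv₀⟩ := hy v hv
  apply hvA
  rw [hmem, hv₀, ← hu₀, ← hmem]
  exact huA

end Groth.Agent.GeomConnFin
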